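import Mathlib.RingTheory.Flat.Equalizer
import Mathlib.RingTheory.Flat.Stability
import Mathlib.RingTheory.Flat.Tensor
import Mathlib.LinearAlgebra.TensorProduct.Prod
import Mathlib.Tactic

set_option autoImplicit false
universe u v w

namespace Groth.Agent.H70

open TensorProduct

/-- A product of two flat modules is flat. -/
theorem flat_prod (R : Type u) [CommRing R] (M : Type v) (N : Type w)
    [AddCommGroup M] [Module R M] [AddCommGroup N] [Module R N]
    [Module.Flat R M] [Module.Flat R N] : Module.Flat R (M × N) := by
  rw [Module.Flat.iff_rTensor_injective']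
  intro I
  have hM := (Module.Flat.iff_rTensor_injective' (R := R) (M := M)).mp inferInstance I
  have hN := (Module.Flat.iff_rTensor_injective' (R := R) (M := N)).mp inferInstance I
  have key : (TensorProduct.prodRight R R R M N).toLinearMap ∘ₗ (I.subtype.rTensor (M × N)) =
      ((I.subtype.rTensor M).prodMap (I.subtype.rTensor N)) ∘ₗ
        (TensorProduct.prodRight R R I M N).toLinearMap := by
    apply TensorProduct.ext'
    intro i p
    simp
  have h2 : Function.Injective (((I.subtype.rTensor M).prodMap (I.subtype.rTensor N)) ∘ₗ
        (TensorProduct.prodRight R R I M N).toLinearMap) := by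
    rw [LinearMap.coe_comp]
    refine Function.Injective.comp ?_ (LinearEquiv.injective _)
    exact Function.Injective.prodMap hM hN
  rw [← key, LinearMap.coe_comp] at h2
  exact Function.Injective.of_comp h2

/-- The kernel of a surjection of flat modules is flat. -/
theorem flat_ker (R : Type u) [CommRing R] (N : Type v) (P : Type w)
    [AddCommGroup N] [Module R N] [AddCommGroup P] [Module R P]
    [Module.Flat R N] [Module.Flat R P] (f : N →ₗ[R] P) (hf : Function.Surjective f) :
    Module.Flat R (LinearMap.ker f) := by
  rw [Module.Flat.iff_rTensor_injective']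
  intro I
  have h1 : Function.Injective ((LinearMap.ker f).subtype.lTensor I) :=
    LinearMap.lTensor_injective_of_exact_of_flat f hf _ (LinearMap.ker f).subtype_injective
      (LinearMap.exact_subtype_ker_map f) I
  have h2 : Function.Injective (I.subtype.rTensor N) :=
    (Module.Flat.iff_rTensor_injective' (R := R) (M := N)).mp inferInstance I
  have key : ((LinearMap.ker f).subtype.lTensor R) ∘ₗ (I.subtype.rTensor (LinearMap.ker f)) =
      (I.subtype.rTensor N) ∘ₗ ((LinearMap.ker f).subtype.lTensor I) := by
    apply TensorProduct.ext'
    intro i p
    simp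
  have h3 : Function.Injective ((I.subtype.rTensor N) ∘ₗ ((LinearMap.ker f).subtype.lTensor I)) := by
    rw [LinearMap.coe_comp]
    exact h2.comp h1
  rw [← key, LinearMap.coe_comp] at h3
  exact Function.Injective.of_comp h3

end Groth.Agent.H70
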