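import Groth.Prelude.Def_W4c1frobunstivaNR
import Mathlib

set_option autoImplicit false
universe u v

namespace Groth.Agent.H70

open W4c1frobunstiva Matrix

variable {R : Type u} [CommRing R] {M : Type v} [AddCommGroup M] [Module R M] {r : ℕ}

/-- a matrix congruent to the identity modulo nilpotents is invertible -/
theorem isUnit_of_sub_one_nilpotent (P : Matrix (Fin r) (Fin r) R)
    (h : ∀ i j, IsNilpotent (P i j - (1 : Matrix (Fin r) (Fin r) R) i j)) : IsUnit P := by
  rw [Matrix.isUnit_iff_isUnit_det]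
  let π := Ideal.Quotient.mk (nilradical R)
  have hmap : π.mapMatrix P = 1 := by
    ext i j
    rw [RingHom.mapMatrix_apply, Matrix.map_apply]
    have h1 : π (P i j - (1 : Matrix (Fin r) (Fin r) R) i j) = 0 :=
      Ideal.Quotient.eq_zero_iff_mem.2 (mem_nilradical.2 (h i j))
    rw [map_sub, sub_eq_zero] at h1
    rw [h1]
    by_cases hij : i = j
    · subst hij; simp
    · simp [hij]
  have hdet : π P.det = 1 := by
    rw [RingHom.map_det, hmap, Matrix.det_one]
  have hnil : IsNilpotent (P.det - 1) := by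
    rw [← mem_nilradical, ← Ideal.Quotient.eq_zero_iff_mem, map_sub, hdet, map_one, sub_self]
  have : P.det = (P.det - 1) + 1 := by ring
  rw [this]
  exact hnil.isUnit_add_one

/-- a matrix fixing an NR-basis is invertible -/
theorem isUnit_of_fix_NRBasis {y : Fin r → M} (hy : IsNRBasis R M y)
    (P : Matrix (Fin r) (Fin r) R) (hP : ∀ j, ∑ i, P j i • y i = y j) : IsUnit P := by
  classical
  apply isUnit_of_sub_one_nilpotent
  intro j i
  refine hy.2 (fun i => P j i - (1 : Matrix (Fin r) (Fin r) R) j i) ?_ i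
  simp only [sub_smul, Finset.sum_sub_distrib, hP j]
  rw [sub_eq_zero]
  simp [Matrix.one_apply, Finset.sum_ite_eq]

theorem exists_matrix_of_span {x : Fin r → M} (hx : Submodule.span R (Set.range x) = ⊤)
    (z : Fin r → M) : ∃ A : Matrix (Fin r) (Fin r) R, ∀ j, z j = ∑ i, A j i • x i := by
  have : ∀ j, ∃ c : Fin r → R, ∑ i, c i • x i = z j := fun j =>
    (Submodule.mem_span_range_iff_exists_fun R).1 (by rw [hx]; trivial)
  choose A hA using this
  exact ⟨Matrix.of A, fun j => (hA j).symm⟩

/-- an `r`-element generating family of a module with an `r`-element NR-basis is an NR-basis -/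
theorem isNRBasis_of_span {y : Fin r → M} (hy : IsNRBasis R M y) {x : Fin r → M}
    (hx : Submodule.span R (Set.range x) = ⊤) : IsNRBasis R M x := by
  classical
  refine ⟨hx, ?_⟩
  obtain ⟨A, hA⟩ := exists_matrix_of_span hy.1 x
  obtain ⟨B, hB⟩ := exists_matrix_of_span hx y
  have hBA : ∀ j, ∑ i, (B * A) j i • y i = y j := by
    intro j
    rw [hB j]
    simp only [Matrix.mul_apply, Finset.sum_smul, hA, Finset.smul_sum, smul_smul]
    rw [Finset.sum_comm]
  have hu : IsUnit (B * A) := isUnit_of_fix_NRBasis hy _ hBA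
  have hdet : IsUnit (B * A).det := (Matrix.isUnit_iff_isUnit_det _).1 hu
  rw [Matrix.det_mul] at hdet
  have hAdet : IsUnit A.det := isUnit_of_mul_isUnit_right hdet
  intro c hc
  have hrel : ∑ i, (Matrix.vecMul c A) i • y i = 0 := by
    rw [← hc]
    simp only [Matrix.vecMul, dotProduct, Finset.sum_smul, hA, Finset.smul_sum, smul_smul]
    rw [Finset.sum_comm]
  have hnil : ∀ i, Matrix.vecMul c A i ∈ nilradical R := fun i => mem_nilradical.2 (hy.2 _ hrel i)
  have hc' : c = Matrix.vecMul (Matrix.vecMul c A) A⁻¹ := by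
    rw [Matrix.vecMul_vecMul, Matrix.mul_nonsing_inv _ hAdet, Matrix.vecMul_one]
  intro i
  rw [← mem_nilradical, hc']
  simp only [Matrix.vecMul, dotProduct]
  exact Ideal.sum_mem _ fun j _ => Ideal.mul_mem_right _ _ (hnil j)

end Groth.Agent.H70
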