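import Mathlib.RingTheory.Flat.FaithfullyFlat.Algebra
import Mathlib.RingTheory.Finiteness.Nakayama
import Mathlib.LinearAlgebra.TensorProduct.Tower
import Mathlib.Tactic

set_option autoImplicit false
universe u v w

namespace Groth.Agent.H70

open TensorProduct

/-- A finite flat algebra with injective structure map is faithfully flat. -/
theorem faithfullyFlat_of_finite_of_injective (B : Type u) (C : Type v) [CommRing B] [CommRing C]
    [Algebra B C] [Module.Finite B C] [Module.Flat B C]
    (hinj : Function.Injective (algebraMap B C)) : Module.FaithfullyFlat B C := by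
  refine ⟨?_⟩
  intro m hm htop
  obtain ⟨r, hr1, hr2⟩ := Submodule.exists_sub_one_mem_and_smul_eq_zero_of_fg_of_le_smul m
    (⊤ : Submodule B C) Module.Finite.fg_top (by rw [htop])
  have h1 := hr2 1 trivial
  rw [Algebra.smul_def, mul_one] at h1
  have hr0 : r = 0 := hinj (by rw [h1, map_zero])
  rw [hr0, zero_sub] at hr1
  have : (1 : B) ∈ m := by simpa using m.neg_mem hr1
  exact hm.ne_top ((Ideal.eq_top_iff_one m).mpr this)

/-- Base change of a faithfully flat ring map along any module stays injective. -/
theorem rTensor_injective_of_faithfullyFlat (R : Type u) (B : Type v) (C : Type w)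
    [CommRing R] [CommRing B] [CommRing C] [Algebra R B] [Algebra B C] [Algebra R C]
    [IsScalarTower R B C] [Module.FaithfullyFlat B C]
    (N : Type*) [AddCommGroup N] [Module R N] :
    Function.Injective ((IsScalarTower.toAlgHom R B C).toLinearMap.rTensor N) := by
  have h1 := Module.FaithfullyFlat.tensorProduct_mk_injective (A := B) (B := C) (B ⊗[R] N)
  let e := TensorProduct.AlgebraTensorModule.cancelBaseChange R B B C N
  have key : ∀ x : B ⊗[R] N, e (TensorProduct.mk B C (B ⊗[R] N) 1 x) =
      (IsScalarTower.toAlgHom R B C).toLinearMap.rTensor N x := by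
    intro x
    induction x using TensorProduct.induction_on with
    | zero => simp
    | tmul b n =>
      simp [e, Algebra.smul_def]
    | add x y hx hy => simp only [map_add, hx, hy]
  intro x y hxy
  rw [← key, ← key] at hxy
  exact h1 (e.injective hxy)

theorem lTensor_injective_of_faithfullyFlat (R : Type u) (B : Type v) (C : Type w)
    [CommRing R] [CommRing B] [CommRing C] [Algebra R B] [Algebra B C] [Algebra R C]
    [IsScalarTower R B C] [Module.FaithfullyFlat B C]
    (N : Type*) [AddCommGroup N] [Module R N] :
    Function.Injective ((IsScalarTower.toAlgHom R B C).toLinearMap.lTensor N) := by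
  rw [LinearMap.lTensor_inj_iff_rTensor_inj]
  exact rTensor_injective_of_faithfullyFlat R B C N

end Groth.Agent.H70
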