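import Mathlib.LinearAlgebra.Trace
import Mathlib.LinearAlgebra.Pi
import Mathlib.Tactic

set_option autoImplicit false
universe u v w

namespace Groth.Agent.H70

theorem lsum_comp' {R : Type u} [CommRing R] {ι : Type v} {M N P : Type*}
    [AddCommGroup M] [Module R M] [AddCommGroup N] [Module R N] [AddCommGroup P] [Module R P]
    (s : Finset ι) (f : ι → N →ₗ[R] P) (g : M →ₗ[R] N) :
    (∑ i ∈ s, f i) ∘ₗ g = ∑ i ∈ s, (f i ∘ₗ g) := by
  ext x; simp [LinearMap.sum_apply]

theorem lcomp_sum' {R : Type u} [CommRing R] {ι : Type v} {M N P : Type*}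
    [AddCommGroup M] [Module R M] [AddCommGroup N] [Module R N] [AddCommGroup P] [Module R P]
    (s : Finset ι) (f : N →ₗ[R] P) (g : ι → M →ₗ[R] N) :
    f ∘ₗ (∑ i ∈ s, g i) = ∑ i ∈ s, (f ∘ₗ g i) := by
  ext x; simp [LinearMap.sum_apply]

section
variable {R : Type u} [CommRing R] {ι : Type v} [Fintype ι] [DecidableEq ι]
  (M : ι → Type w) [∀ i, AddCommGroup (M i)] [∀ i, Module R (M i)]
  [∀ i, Module.Free R (M i)] [∀ i, Module.Finite R (M i)]

theorem sum_single_comp_proj :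
    (∑ i : ι, (LinearMap.single R M i) ∘ₗ (LinearMap.proj i : (Π k, M k) →ₗ[R] M i)) = LinearMap.id := by
  have := LinearMap.lsum_single (R := R) (φ := M) R
  rw [LinearMap.lsum_apply] at this
  exact this

theorem trace_signed_comp (c : ι → R) (g : (Π k, M k) →ₗ[R] (Π k, M k)) :
    LinearMap.trace R (Π k, M k)
      ((∑ i : ι, (LinearMap.single R M i) ∘ₗ (c i • (LinearMap.proj i : (Π k, M k) →ₗ[R] M i))) ∘ₗ g) =
    ∑ i : ι, c i * LinearMap.trace R (M i) ((LinearMap.proj i) ∘ₗ g ∘ₗ (LinearMap.single R M i)) := by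
  rw [lsum_comp', map_sum]
  apply Finset.sum_congr rfl
  intro i _
  rw [LinearMap.comp_smul, LinearMap.smul_comp, map_smul, smul_eq_mul, LinearMap.comp_assoc,
    LinearMap.trace_comp_comm', LinearMap.comp_assoc]

theorem trace_block_comp (i : ι) (f g : (Π k, M k) →ₗ[R] (Π k, M k)) :
    LinearMap.trace R (M i) ((LinearMap.proj i) ∘ₗ (f ∘ₗ g) ∘ₗ (LinearMap.single R M i)) =
    ∑ j : ι, LinearMap.trace R (M i)
      (((LinearMap.proj i) ∘ₗ f ∘ₗ (LinearMap.single R M j)) ∘ₗ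
        ((LinearMap.proj j) ∘ₗ g ∘ₗ (LinearMap.single R M i))) := by
  rw [← map_sum]
  congr 1
  have h : f ∘ₗ g = f ∘ₗ (∑ j : ι, (LinearMap.single R M j) ∘ₗ
      (LinearMap.proj j : (Π k, M k) →ₗ[R] M j)) ∘ₗ g := by
    rw [sum_single_comp_proj]; rfl
  rw [h, lsum_comp', lcomp_sum', lsum_comp', lcomp_sum']
  apply Finset.sum_congr rfl
  intro j _
  simp only [LinearMap.comp_assoc]

end

theorem neg_one_pow_natAbs {R : Type u} [CommRing R] (n : ℤ) :
    (-1 : R) ^ n.natAbs = if Even n then 1 else -1 := by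
  split_ifs with h
  · exact Even.neg_one_pow (Int.natAbs_even.mpr h)
  · exact Odd.neg_one_pow (Int.natAbs_odd.mpr (Int.not_even_iff_odd.mp h))

end Groth.Agent.H70
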